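import Mathlib
import Cfsg.Agent.H249.DP.TwFCent
import Cfsg.Agent.H448.FprTwF.Row

/-!
# Centralisers of elements of prime order dividing `q - 1` of `²F₄(q)` (helper448)

`card_cent_minus` : `|C(x)| ≤ q ^ 8` for `x` of prime order `p ∣ q - 1` of `²F₄(q)`, `q ≥ 8`.
-/

set_option autoImplicit false
set_option linter.unusedSectionVars false

namespace Cfsg.Agent.H448.TwFC

open Cfsg.Agent.KFacts.TwF4 Cfsg.Agent.KFacts.TwF4.Full
open Cfsg.Agent.SplitTwo Cfsg.Agent.SplitTwo.ZS Cfsg.Agent.TitsThree.RankTwoZ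
open Cfsg.Agent.SplitTwo.RootSysZ Subgroup MulAction Cfsg.Agent.H409 Cfsg.Lie
open Cfsg.Agent.H448.FprTwF Cfsg.Agent.H249.DP.TwF

universe u

variable {F : Type*} [Field F] {σ : F →+* F} {G : Type u} [Group G] (S : Full σ G)

/-- a torus element centralises a root group or acts fixed-point-freely on it -/
theorem tk_or_fpf {t : G} (ht : t ∈ S.T) (k : ℤ) : t ∈ S.Tk k ∨ ∀ x ∈ S.XZ k, t * x * t⁻¹ = x → x = 1 := by
  obtain ⟨c, d, rfl⟩ := S.mem_T.1 ht
  obtain ⟨a, ha | ha⟩ := Int.even_or_odd' k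
  · subst ha
    by_cases h : chE σ (a : ZMod 8) c d = 1
    · left
      refine ⟨ht, mem_centralizer_iff.2 fun x hx => ?_⟩
      obtain ⟨p, u, rfl⟩ := (S.mem_XZ_even a x).1 hx
      have h1 := S.h_e c d (a : ZMod 8) p u
      rw [h, Units.val_one, map_one, one_mul, one_mul, one_mul] at h1
      exact (mul_inv_eq_iff_eq_mul.1 h1).symm
    · right
      intro x hx h1
      exact S.fpf_even h ((S.mem_XZ_even a x).1 hx) h1
  · subst ha
    by_cases h : chO σ (a : ZMod 8) c d = 1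
    · left
      refine ⟨ht, mem_centralizer_iff.2 fun x hx => ?_⟩
      obtain ⟨p, rfl⟩ := (S.mem_XZ_odd a x).1 hx
      have h1 := S.h_o c d (a : ZMod 8) p
      rw [h, Units.val_one, one_mul] at h1
      exact (mul_inv_eq_iff_eq_mul.1 h1).symm
    · right
      intro x hx h1
      exact S.fpf_odd h ((S.mem_XZ_odd a x).1 hx) h1

/-- regular torus elements -/
theorem card_cent_reg [Finite G] [Finite F] {t : G} (ht : t ∈ S.T)
    (hf : ∀ j : ℤ, 1 ≤ j → j ≤ 8 → ∀ x ∈ S.XZ j, t * x * t⁻¹ = x → x = 1) :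
    Nat.card ↥(centralizer ({t} : Set G)) ≤ 32 * (Nat.card F - 1) ^ 2 := by
  have h1 := card_centralizer_le (K := B S) (T_le S ht)
  have h2 := fix_count' S (U_le S) (T_le S) (R := J S.XZ 1 8) (X := (⊥ : Subgroup G)) (t := t)
    (fun b hb => ⟨b, hb, 1, one_mem _, (mul_one b).symm⟩)
    (fun y hy => S.T_conj_J ht hy) (fun y hy h =>
      S.fix_J_one ht (a := 1) (b := 8) (by norm_num) hf hy (by rw [h]; group))
  have h3 : Nat.card ↥(B S ⊓ centralizer ({t} : Set G)) ≤ Nat.card S.T := by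
    have key : (B S ⊓ centralizer ({t} : Set G)) ≤ S.T := by
      intro g hg
      obtain ⟨⟨u, hu, s, hs, rfl⟩, hc⟩ := mem_inf.1 hg
      rw [mem_centralizer_singleton_iff] at hc
      have h1 : t * u * t⁻¹ = u := by
        have h2 : s * t = t * s := S.T_comm hs ht
        have h3 : u * t * s = t * u * s := by
          rw [mul_assoc, ← h2, ← mul_assoc, hc, mul_assoc]
        rw [← mul_right_cancel h3, mul_inv_cancel_right]
      rw [S.fix_J_one ht (a := 1) (b := 8) (by norm_num) hf hu h1, one_mul]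
      exact hs
    exact Nat.card_le_card_of_injective (Subgroup.inclusion key) (Subgroup.inclusion_injective key)
  have h4 : Nat.card S.T = (Nat.card F - 1) ^ 2 := Cfsg.Agent.H67.TwFFourOdd.card_torus S
  rw [h4] at h3
  have h5 : Nat.card (⊥ : Subgroup G) = 1 := Subgroup.card_bot
  rw [h5, one_mul] at h2
  exact h1.trans (Nat.mul_le_mul h2 h3)

/-- **torus elements** -/
theorem card_cent_T [Finite G] [Finite F] (hq : 8 ≤ Nat.card F) {t : G} (ht : t ∈ S.T) (ht1 : t ≠ 1) :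
    Nat.card ↥(centralizer ({t} : Set G)) ≤ Nat.card F ^ 8 := by
  have h64 : 64 ≤ Nat.card F ^ 2 := by nlinarith
  have hq1 : (Nat.card F - 1) ^ 2 ≤ Nat.card F ^ 2 := Nat.pow_le_pow_left (by omega) 2
  by_cases hk : ∃ k : ℤ, 1 ≤ k ∧ k ≤ 8 ∧ t ∈ S.Tk k
  · obtain ⟨k, hk1, hk8, hk⟩ := hk
    obtain ⟨a, ha | ha⟩ := Int.even_or_odd' k
    · have h2 := S.ck_Tk (4 - a) hk
      rw [show k + 2 * (4 - a) = 8 by omega] at h2
      rw [card_cent_ck S (4 - a) t]
      refine (card_cent_eight S h2 ((MulEquiv.map_ne_one_iff _).2 ht1)).trans ?_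
      calc 32 * Nat.card F ^ 4 * (Nat.card F - 1) ^ 2 ≤ Nat.card F ^ 2 * Nat.card F ^ 4 * Nat.card F ^ 2 := by
            gcongr; omega
        _ = _ := by ring
    · have h2 := S.ck_Tk (-a) hk
      rw [show k + 2 * (-a) = 1 by omega] at h2
      rw [card_cent_ck S (-a) t]
      refine (card_cent_one S h2 ((MulEquiv.map_ne_one_iff _).2 ht1)).trans ?_
      calc 32 * Nat.card F ^ 2 * (Nat.card F - 1) ^ 2 ≤ Nat.card F ^ 2 * Nat.card F ^ 2 * Nat.card F ^ 2 := by
            gcongr; omega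
        _ = Nat.card F ^ 6 := by ring
        _ ≤ _ := Nat.pow_le_pow_right (by omega) (by norm_num)
  · push Not at hk
    refine (card_cent_reg S ht fun j h1 h8 => ?_).trans ?_
    · rcases tk_or_fpf S ht j with h | h
      · exact absurd h (hk j h1 h8)
      · exact h
    · calc 32 * (Nat.card F - 1) ^ 2 ≤ Nat.card F ^ 2 * Nat.card F ^ 2 := by gcongr; omega
        _ = Nat.card F ^ 4 := by ring
        _ ≤ _ := Nat.pow_le_pow_right (by omega) (by norm_num)

/-- elements of prime order `p ∣ q - 1` are conjugate into the torus -/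
theorem exists_conj_T [Finite G] [Finite F] (hq : 2 ≤ Nat.card F)
    (hcard : Nat.card G = Nat.card F ^ 12 * (Nat.card F - 1) * (Nat.card F ^ 3 + 1) * (Nat.card F ^ 4 - 1) *
      (Nat.card F ^ 6 + 1)) {p : ℕ} (hp : p.Prime) (hp2 : p ≠ 2) (hpq : p ∣ Nat.card F - 1) {x : G}
    (hx : orderOf x = p) : ∃ g : G, g⁻¹ * x * g ∈ S.T := by
  have := Fact.mk hp
  set q := Nat.card F with hqd
  have h4 : Nat.card S.T = (q - 1) ^ 2 := Cfsg.Agent.H67.TwFFourOdd.card_torus S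
  have hR : S.T.index = q ^ 12 * ((q ^ 3 + 1) * ((q + 1) * (q ^ 2 + 1)) * (q ^ 6 + 1)) := by
    have h1 := Subgroup.card_mul_index S.T
    rw [h4, hcard] at h1
    have h2 : q ^ 4 - 1 = (q - 1) * ((q + 1) * (q ^ 2 + 1)) := by
      obtain ⟨a, ha⟩ : ∃ a, q = a + 1 := ⟨q - 1, by omega⟩
      rw [ha, Nat.add_sub_cancel]
      have : (a + 1) ^ 4 = a * ((a + 1 + 1) * ((a + 1) ^ 2 + 1)) + 1 := by ring
      rw [this, Nat.add_sub_cancel]
    rw [h2] at h1
    refine Nat.eq_of_mul_eq_mul_left (pow_pos (by omega : 0 < q - 1) 2) (h1.trans ?_)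
    ring
  have hnd : ¬ p ∣ S.T.index := by
    have hqp : (q : ZMod p) = 1 := by
      have h1 := (ZMod.natCast_eq_zero_iff (q - 1) p).2 hpq
      rw [Nat.cast_sub (by omega), sub_eq_zero] at h1
      rw [h1, Nat.cast_one]
    have h2 : (2 : ZMod p) ≠ 0 := by
      intro h
      have h1 : ((2 : ℕ) : ZMod p) = 0 := by exact_mod_cast h
      rw [ZMod.natCast_eq_zero_iff] at h1
      exact hp2 ((Nat.prime_dvd_prime_iff_eq hp Nat.prime_two).1 h1)
    rw [← ZMod.natCast_eq_zero_iff, hR]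
    push_cast
    rw [hqp]
    have : (1 : ZMod p) ^ 12 * (((1 : ZMod p) ^ 3 + 1) * (((1 : ZMod p) + 1) * ((1 : ZMod p) ^ 2 + 1)) * ((1 : ZMod p) ^ 6 + 1)) =
        2 ^ 4 := by norm_num
    rw [this]
    exact pow_ne_zero 4 h2
  have hpg : IsPGroup p ↥(Subgroup.zpowers x) := by
    apply IsPGroup.of_card (n := 1)
    rw [Nat.card_zpowers, hx, pow_one]
  have hfin : Finite (G ⧸ S.T) := inferInstance
  obtain ⟨ω, hω⟩ := hpg.nonempty_fixed_point_of_prime_not_dvd_card (G ⧸ S.T) (by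
    rw [← Subgroup.index_eq_card]; exact hnd)
  obtain ⟨g, rfl⟩ := QuotientGroup.mk_surjective ω
  refine ⟨g, ?_⟩
  have h1 := hω ⟨x, Subgroup.mem_zpowers x⟩
  have h2 : ((x * g : G) : G ⧸ S.T) = (g : G ⧸ S.T) := h1
  have h3 := QuotientGroup.eq.1 h2.symm
  rwa [← mul_assoc] at h3

/-- **`|C(x)| ≤ q ^ 8` for `x` of prime order `p ∣ q - 1`.** -/
theorem card_cent_minus {F : Type u} [Field F] [Fintype F] {m : ℕ} (hm : 1 ≤ m) (hK : Fintype.card F = 2 ^ (2 * m + 1))
    {p : ℕ} (hp : p.Prime) (hpq : p ∣ Nat.card F - 1) {x : ↥(twistedF4 F (2 ^ m))} (hx : orderOf x = p) :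
    Nat.card ↥(centralizer ({x} : Set ↥(twistedF4 F (2 ^ m)))) ≤ Nat.card F ^ 8 := by
  obtain ⟨φ, hφ⟩ := Cfsg.Agent.ChevalleyStructure.TwF4.TwistedFix.exists_rln hK
  have := Cfsg.Agent.ChevalleyStructure.TwF4.Twisted.charP_two hK
  have hfin : Finite ↥(twistedF4 F (2 ^ m)) := inferInstance
  have hFc : Nat.card F = 2 ^ (2 * m + 1) := by rw [Nat.card_eq_fintype_card, hK]
  have h8 : 8 ≤ Nat.card F := by
    rw [hFc]
    calc 8 = 2 ^ 3 := by norm_num
      _ ≤ _ := Nat.pow_le_pow_right (by norm_num) (by omega)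
  have h2 : 2 ∣ Nat.card F := by rw [hFc]; exact dvd_pow_self 2 (by omega)
  have hp2 : p ≠ 2 := by
    rintro rfl
    omega
  have S : Full φ ↥(twistedF4 F (2 ^ m)) := Cfsg.Agent.KFacts.TwF4.Inst.full hK hφ
  have hcard : Nat.card ↥(twistedF4 F (2 ^ m)) = Nat.card F ^ 12 * (Nat.card F - 1) * (Nat.card F ^ 3 + 1) *
      (Nat.card F ^ 4 - 1) * (Nat.card F ^ 6 + 1) := by
    rw [hFc]; exact Cfsg.Agent.S1068.result hK
  obtain ⟨g, hg⟩ := exists_conj_T S (by omega) hcard hp hp2 hpq hx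
  have h1 : IsConj x (g⁻¹ * x * g) := isConj_iff.2 ⟨g⁻¹, by rw [inv_inv]⟩
  rw [Cfsg.Agent.Blocks.SylowIn.card_centralizer_of_isConj h1.symm]
  refine card_cent_T S h8 hg ?_
  intro h
  have h3 : x = 1 := by
    have e : x = g * (g⁻¹ * x * g) * g⁻¹ := by group
    rw [e, h]; group
  rw [h3, orderOf_one] at hx
  exact hp.one_lt.ne hx

end Cfsg.Agent.H448.TwFC
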