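import Mathlib
import Cfsg.Agent.H448.FprCent.SteTor
import Cfsg.Agent.H525.ExtTw

/-!
# Centralisers of elements of odd prime order of `²F₄(q)` (helper448)

* `cent_ste_five` : an element `x` of prime order `≥ 5` of `²F₄(q)` commutes with an involution or `|C(x)| ≤ (√q + 1) ^ 4`;
* `cent_ste_q8` : same with `|C(x)| ≤ q ^ 8`;
* `comm_inv_three` : an element of order `3` of `²F₄(q)` commutes with an involution.
-/

set_option autoImplicit false
set_option linter.unusedSectionVars false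

namespace Cfsg.Agent.H448.TwFC

open CoxeterSystem Subgroup Cfsg Cfsg.Lie Cfsg.Lie.ChevalleyDatum
open Cfsg.Agent.ChevalleyStructure Cfsg.Agent.ChevalleyStructure.Elts Cfsg.Agent.ChevalleyStructure.CoxeterGeom
  Cfsg.Agent.ChevalleyStructure.CoxeterGeomTypes Cfsg.Agent.ChevalleyStructure.NPerm
open Cfsg.Agent.Tits.Roots Cfsg.Agent.Tits.Core Cfsg.Agent.Nodes.Reps Cfsg.Agent.Nodes.BNOf
  Cfsg.Agent.Nodes.RGDChev Cfsg.Agent.Nodes.Bruhat
open Cfsg.Agent.KFacts.RgdField Cfsg.Agent.KFacts.RgdChevCoord Cfsg.Agent.BpExc Cfsg.Agent.BpExc.TorCent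
  Cfsg.Agent.BpExc.TorChev Cfsg.Agent.BpExc.Tow Cfsg.Agent.BpExc.TowChev Cfsg.Agent.BpExc.Fr Cfsg.Agent.BpExc.Pair
  Cfsg.Agent.BpExc.LangFr
open Cfsg.Agent.BpExc.FamExt Cfsg.Agent.BpExc.FamUntw Cfsg.Agent.BpExc.FamInst Cfsg.Agent.BpExc.FamField
open Cfsg.Agent.H129.TorusChar
open Cfsg.Agent.H378.TorDual Cfsg.Agent.H378.TorChar Cfsg.Agent.H378.TorFin Cfsg.Agent.H378.LatRoot
  Cfsg.Agent.H378.Regular
open Cfsg.Agent.H493.F4End Cfsg.Agent.H493.F4Tor Cfsg.Agent.H659.TwF4Ord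
open Cfsg.Agent.GpExc.Field (glMap emb coe_emb glMap_xG emb_injective coe_glMap)
open Cfsg.Agent.H448.FprCent

universe u

theorem WF5 {p : ℕ} (hp : p.Prime) (h5 : 5 ≤ p) : ¬ p ∣ Nat.card CoxeterMatrix.F₄.Group := by
  rw [Cfsg.Agent.H525.ExtTw.card_F4]
  intro h
  rw [show (1152 : ℕ) = 2 ^ 7 * 3 ^ 2 by norm_num] at h
  rcases (Nat.Prime.dvd_mul hp).1 h with h1 | h1
  · have := (Nat.prime_dvd_prime_iff_eq hp Nat.prime_two).1 (hp.dvd_of_dvd_pow h1)
    omega
  · have := (Nat.prime_dvd_prime_iff_eq hp Nat.prime_three).1 (hp.dvd_of_dvd_pow h1)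
    omega

theorem cent_ste_five {K : Type u} [Field K] [Fintype K] {m : ℕ} (hm : 1 ≤ m) (hK : Fintype.card K = 2 ^ (2 * m + 1))
    {x : ↥(twistedF4 K (2 ^ m))} {p : ℕ} (hp : p.Prime) (hp5 : 5 ≤ p) (hx : orderOf x = p) :
    (∃ v : ↥(twistedF4 K (2 ^ m)), orderOf v = 2 ∧ Commute v x) ∨
      (Nat.card ↥(Subgroup.centralizer {x}) : ℝ) ≤ (Real.sqrt (Nat.card K) + 1) ^ 4 := by
  have hKc := Cfsg.Agent.ChevalleyStructure.TwF4.Twisted.charP_two hK
  have h2 : Fact (Nat.Prime 2) := ⟨Nat.prime_two⟩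
  obtain ⟨k, _, _, f, r', _, _, n, hk, hka, hn0, hn⟩ := exists_closure K
  have hrr : r' = 2 := by
    have h1 : CharP K r' := RingHom.charP f f.injective r'
    exact CharP.eq K h1 hKc
  subst hrr
  let cs : CoxeterSystem CoxeterMatrix.F₄ CoxeterMatrix.F₄.Group := CoxeterMatrix.F₄.toCoxeterSystem
  have hWf := finite_W H493.F4Tor.hp cs
  have hσ : BpExc.LangFr.IsFrob 2 n (phi chevF4 k 2 n) :=
    Cfsg.Agent.H666.SigFr.isFrob_fld fun a => frb_apply k 2 n a
  have hFr := Cfsg.Agent.H666.SigFr.fr_fld H493.F4Tor.hp cs (frb k 2 n)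
  have hpf : Fact p.Prime := ⟨hp⟩
  have hℓW : ¬ p ∣ Nat.card CoxeterMatrix.F₄.Group := WF5 hp hp5
  set y0 : ↥(chevF4.group K) := inc K (2 ^ m) x with hy0
  set y : ↥(chevF4.group k) := emb hD f y0 with hy
  have hinj : Function.Injective (emb hD f) := emb_injective hD f
  have hxp : x ^ p = 1 := by rw [← hx]; exact pow_orderOf_eq_one x
  have hyp : y ^ p = 1 := by rw [hy, hy0, ← map_pow, ← map_pow, hxp, map_one, map_one]
  have hfix : ∀ z : ↥(chevF4.group K), phi chevF4 k 2 n (emb hD f z) = emb hD f z :=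
    phi_emb' H493.F4Tor.hp f 2 hn
  rcases inv_or_regular H493.F4Tor.hp cs hk hka hn0 hσ hFr (hfix y0) hp (by omega) hyp with
    ⟨u, hu, hc, ho⟩ | ⟨t, c, ht, hct, hreg⟩
  · left
    obtain ⟨v, hv, hcv⟩ := H378.RegTw.exists_desc (x := y0) hinj
      (fun y hy => fix_pow_mem H493.F4Tor.hp f 2 hn BpExc.FamInst.inv_F4 one_ne_zero hy) (by norm_num) hu hc ho
    obtain ⟨u, hu, hγ, hu2⟩ := exists_fixed_inv (C := Subgroup.centralizer {inc K (2 ^ m) x}) (ste K m) (ste_ste_id hK)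
      (fun g hg => by
        rw [mem_centralizer_singleton_iff] at hg ⊢
        have h3 := congrArg (ste K m) hg
        rwa [map_mul, map_mul, ste_inc hK] at h3) (v := v) (mem_centralizer_singleton_iff.2 hcv.eq) hv
    have h4 := H493.F4Fix.mem_twisted hK hγ
    refine ⟨⟨u, h4⟩, ?_, ?_⟩
    · exact (orderOf_injective _ (inc_injective (K := K) (2 ^ m)) ⟨u, h4⟩).symm.trans hu2
    · apply inc_injective (K := K) (2 ^ m)
      rw [map_mul, map_mul]
      exact mem_centralizer_singleton_iff.1 hu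
  · right
    have htp : t ^ p = 1 := by
      rw [← hct]
      have h1 := conj_pow (a := c⁻¹) (b := y) (i := p)
      rw [inv_inv] at h1
      rw [h1, hyp]; group
    have hstey : ∀ z : ↥(twistedF4 K (2 ^ m)), ste k m (emb hD f (inc K (2 ^ m) z)) = emb hD f (inc K (2 ^ m) z) := by
      intro z
      rw [← emb_ste, ste_inc hK]
    set n0 : ↥(chevF4.group k) := c⁻¹ * ste k m c with hn0'
    have hste : ∀ z : ↥(twistedF4 K (2 ^ m)),
        n0 * ste k m (c⁻¹ * emb hD f (inc K (2 ^ m) z) * c) * n0⁻¹ = c⁻¹ * emb hD f (inc K (2 ^ m) z) * c := by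
      intro z
      rw [map_mul, map_mul, map_inv, hstey, hn0']
      group
    have hct' : c⁻¹ * emb hD f (inc K (2 ^ m) x) * c = t := hct
    have htt : n0 * ste k m t * n0⁻¹ = t := by rw [← hct']; exact hste x
    obtain ⟨m', hm', w, g, hg, hgs, hc'⟩ := exists_form' H493.F4Tor.hp cs hk 2 (s := ste k m t) (t := t) (c := n0)
      (ste_TT (m := m) ht) ht (mul_inv_eq_iff_eq_mul.1 htt)
    rw [MM_eq_bot H493.F4Tor.hp cs hreg, Subgroup.mem_bot] at hm'
    rw [hm', one_mul] at hc'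
    rw [← hc'] at hg
    have hmem : ∀ z : ↥(Subgroup.centralizer {x}), c⁻¹ * emb hD f (inc K (2 ^ m) z.1) * c ∈ TT chevF4 k := by
      intro z
      refine mem_TT_of_comm H493.F4Tor.hp cs ht hp hℓW htp hreg ?_ hk 2
      rw [← hct']
      have h1 := mem_centralizer_singleton_iff.1 z.2
      have h3 : emb hD f (inc K (2 ^ m) z.1) * emb hD f (inc K (2 ^ m) x) =
          emb hD f (inc K (2 ^ m) x) * emb hD f (inc K (2 ^ m) z.1) := by
        rw [← map_mul, ← map_mul, h1, map_mul, map_mul]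
      calc c⁻¹ * emb hD f (inc K (2 ^ m) z.1) * c * (c⁻¹ * emb hD f (inc K (2 ^ m) x) * c) =
          c⁻¹ * (emb hD f (inc K (2 ^ m) z.1) * emb hD f (inc K (2 ^ m) x)) * c := by group
        _ = _ := by rw [h3]; group
    have hdet : ((LinearMap.det (rep cs H493.F4Tor.hp.isCartan w - Rl m) : ℤ) : k) ≠ 0 := det_ne cs _ hm w k
    have hfin : Finite ↥(KerOf k (rep cs H493.F4Tor.hp.isCartan w - Rl m)) := by
      apply Nat.finite_of_card_ne_zero
      rw [card_kerOf k hdet]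
      intro h0
      apply hdet
      rw [Int.natAbs_eq_zero.1 h0, Int.cast_zero]
    have hle : Nat.card ↥(Subgroup.centralizer {x}) ≤
        Nat.card ↥(KerOf k (rep cs H493.F4Tor.hp.isCartan w - Rl m)) := by
      refine Nat.card_le_card_of_injective (fun z : ↥(Subgroup.centralizer {x}) =>
        (⟨tchar H493.F4Tor.hp ⟨_, hmem z⟩, mem_ker cs hk hg (hmem z) (hste z.1)⟩ :
          ↥(KerOf k (rep cs H493.F4Tor.hp.isCartan w - Rl m)))) ?_
      intro a b hab
      have h1 := tchar_injective H493.F4Tor.hp (congrArg Subtype.val hab)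
      have h3 : c⁻¹ * emb hD f (inc K (2 ^ m) a.1) * c = c⁻¹ * emb hD f (inc K (2 ^ m) b.1) * c :=
        congrArg Subtype.val h1
      have h4 := mul_left_cancel (mul_right_cancel h3)
      exact Subtype.ext (inc_injective (K := K) (2 ^ m) (hinj h4))
    rw [card_kerOf k hdet] at hle
    have h5 := det_bound cs H493.F4Tor.hp.isCartan m w
    have h6 : Nat.card K = 2 ^ (2 * m + 1) := by rw [Nat.card_eq_fintype_card, hK]
    rw [h6]
    exact le_trans (by exact_mod_cast hle) h5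


theorem sqrt_le {q : ℕ} (hq : 2 ≤ q) : (Real.sqrt q + 1) ^ 4 ≤ ((q ^ 8 : ℕ) : ℝ) := by
  have h1 : (2 : ℝ) ≤ (q : ℝ) := by exact_mod_cast hq
  have h2 : Real.sqrt q ≤ (q : ℝ) := by
    rw [Real.sqrt_le_left (by linarith)]
    nlinarith
  have h3 : Real.sqrt q + 1 ≤ (q : ℝ) ^ 2 := by nlinarith
  calc (Real.sqrt q + 1) ^ 4 ≤ ((q : ℝ) ^ 2) ^ 4 := pow_le_pow_left₀ (by positivity) h3 4
    _ = _ := by push_cast; ring

/-- `|C(x)| ≤ q ^ 8` for `x` of prime order `≥ 5` commuting with no involution -/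
theorem cent_ste_q8 {K : Type u} [Field K] [Fintype K] {m : ℕ} (hm : 1 ≤ m) (hK : Fintype.card K = 2 ^ (2 * m + 1))
    {x : ↥(twistedF4 K (2 ^ m))} {p : ℕ} (hp : p.Prime) (hp5 : 5 ≤ p) (hx : orderOf x = p) :
    (∃ v : ↥(twistedF4 K (2 ^ m)), orderOf v = 2 ∧ Commute v x) ∨
      Nat.card ↥(Subgroup.centralizer {x}) ≤ Nat.card K ^ 8 := by
  rcases cent_ste_five hm hK hp hp5 hx with h | h
  · exact Or.inl h
  · right
    have h2 : 2 ≤ Nat.card K := by
      rw [Nat.card_eq_fintype_card, hK]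
      calc 2 = 2 ^ 1 := rfl
        _ ≤ _ := Nat.pow_le_pow_right (by norm_num) (by omega)
    exact_mod_cast h.trans (sqrt_le h2)

/-! ### order three -/

theorem root_tab : (∃ r, r < 48 ∧ vec chevF4 4 r = ![0, 1, 1, 0]) ∧
    ((∃ r, r < 48 ∧ vec chevF4 4 r = ![0, 1, 2, 0]) ∨ (∃ r, r < 48 ∧ vec chevF4 4 r = ![0, 2, 1, 0])) := by
  decide +kernel

/-- **An element of order three of `²F₄(q)` commutes with an involution.** -/
theorem comm_inv_three {K : Type u} [Field K] [Fintype K] {m : ℕ} (hK : Fintype.card K = 2 ^ (2 * m + 1))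
    {x : ↥(twistedF4 K (2 ^ m))} (hx : orderOf x = 3) :
    ∃ v : ↥(twistedF4 K (2 ^ m)), orderOf v = 2 ∧ Commute v x := by
  have hKc := Cfsg.Agent.ChevalleyStructure.TwF4.Twisted.charP_two hK
  have h2 : Fact (Nat.Prime 2) := ⟨Nat.prime_two⟩
  obtain ⟨k, _, _, f, r', _, _, n, hk, hka, hn0, hn⟩ := exists_closure K
  have hrr : r' = 2 := by
    have h1 : CharP K r' := RingHom.charP f f.injective r'
    exact CharP.eq K h1 hKc
  subst hrr
  let cs : CoxeterSystem CoxeterMatrix.F₄ CoxeterMatrix.F₄.Group := CoxeterMatrix.F₄.toCoxeterSystem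
  have hWf := finite_W H493.F4Tor.hp cs
  have hσ : BpExc.LangFr.IsFrob 2 n (phi chevF4 k 2 n) :=
    Cfsg.Agent.H666.SigFr.isFrob_fld fun a => frb_apply k 2 n a
  have hFr := Cfsg.Agent.H666.SigFr.fr_fld H493.F4Tor.hp cs (frb k 2 n)
  set y0 : ↥(chevF4.group K) := inc K (2 ^ m) x with hy0
  set y : ↥(chevF4.group k) := emb hD f y0 with hy
  have hinj : Function.Injective (emb hD f) := emb_injective hD f
  have hxp : x ^ 3 = 1 := by rw [← hx]; exact pow_orderOf_eq_one x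
  have hyp : y ^ 3 = 1 := by rw [hy, hy0, ← map_pow, ← map_pow, hxp, map_one, map_one]
  have hfix : ∀ z : ↥(chevF4.group K), phi chevF4 k 2 n (emb hD f z) = emb hD f z :=
    phi_emb' H493.F4Tor.hp f 2 hn
  rcases inv_or_regular H493.F4Tor.hp cs hk hka hn0 hσ hFr (hfix y0) Nat.prime_three (by norm_num) hyp with
    ⟨u, hu, hc, ho⟩ | ⟨t, c, ht, hct, hreg⟩
  · obtain ⟨v, hv, hcv⟩ := H378.RegTw.exists_desc (x := y0) hinj
      (fun y hy => fix_pow_mem H493.F4Tor.hp f 2 hn BpExc.FamInst.inv_F4 one_ne_zero hy) (by norm_num) hu hc ho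
    obtain ⟨u, hu, hγ, hu2⟩ := exists_fixed_inv (C := Subgroup.centralizer {inc K (2 ^ m) x}) (ste K m) (ste_ste_id hK)
      (fun g hg => by
        rw [mem_centralizer_singleton_iff] at hg ⊢
        have h3 := congrArg (ste K m) hg
        rwa [map_mul, map_mul, ste_inc hK] at h3) (v := v) (mem_centralizer_singleton_iff.2 hcv.eq) hv
    have h4 := H493.F4Fix.mem_twisted hK hγ
    refine ⟨⟨u, h4⟩, ?_, ?_⟩
    · exact (orderOf_injective _ (inc_injective (K := K) (2 ^ m)) ⟨u, h4⟩).symm.trans hu2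
    · apply inc_injective (K := K) (2 ^ m)
      rw [map_mul, map_mul]
      exact mem_centralizer_singleton_iff.1 hu
  · exfalso
    have htp : t ^ 3 = 1 := by
      rw [← hct]
      have h1 := conj_pow (a := c⁻¹) (b := y) (i := 3)
      rw [inv_inv] at h1
      rw [h1, hyp]; group
    have hM := isMC_cX H493.F4Tor.hp ht
    have h3 : ∀ z, cX H493.F4Tor.hp t z ^ 3 = 1 := fun z => by
      rw [← cX_pow H493.F4Tor.hp ht, htp, cX_one]
    have hreg' : ∀ a, IsRoot cs H493.F4Tor.hp.isCartan a → cX H493.F4Tor.hp t a ≠ 1 := fun a ha => by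
      rw [cX_root H493.F4Tor.hp cs ht ha]; exact hreg a ha
    have hroot : ∀ a, (∃ r, r < 48 ∧ vec chevF4 4 r = a) → IsRoot cs H493.F4Tor.hp.isCartan a := fun a ha =>
      (isRoot_iff H493.F4Tor.hp cs a).2 (by obtain ⟨r, hr, h⟩ := ha; exact ⟨r, hr, h⟩)
    set α := cX H493.F4Tor.hp t ![0, 1, 0, 0] with hα
    set β := cX H493.F4Tor.hp t ![0, 0, 1, 0] with hβ
    have ha : α ≠ 1 := hreg' _ (hroot _ (by decide +kernel))
    have hb : β ≠ 1 := hreg' _ (hroot _ (by decide +kernel))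
    have hab : α * β ≠ 1 := by
      have h := hreg' _ (hroot _ root_tab.1)
      have e : (![0, 1, 1, 0] : Fin 4 → ℤ) = ![0, 1, 0, 0] + ![0, 0, 1, 0] := by decide
      rwa [e, hM.add] at h
    have ha3 : α ^ 3 = 1 := h3 _
    have hb3 : β ^ 3 = 1 := h3 _
    have ha2 : α ^ 2 + α + 1 = 0 := by
      have : (α - 1) * (α ^ 2 + α + 1) = 0 := by linear_combination ha3
      rcases mul_eq_zero.1 this with h | h
      · exact absurd (sub_eq_zero.1 h) ha
      · exact h
    have hb2 : β ^ 2 + β + 1 = 0 := by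
      have : (β - 1) * (β ^ 2 + β + 1) = 0 := by linear_combination hb3
      rcases mul_eq_zero.1 this with h | h
      · exact absurd (sub_eq_zero.1 h) hb
      · exact h
    have hEq : α = β := by
      -- (α - β) (α + β + 1) = 0; if `β = - α - 1 = α ^ 2` then `α β = 1`
      have : (α - β) * (α + β + 1) = 0 := by linear_combination ha2 - hb2
      rcases mul_eq_zero.1 this with h | h
      · exact sub_eq_zero.1 h
      · exact absurd (show α * β = 1 by linear_combination α * h - ha2) hab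
    rcases root_tab.2 with h | h
    · have h' := hreg' _ (hroot _ h)
      have e : (![0, 1, 2, 0] : Fin 4 → ℤ) = ![0, 1, 0, 0] + (![0, 0, 1, 0] + ![0, 0, 1, 0]) := by decide
      rw [e, hM.add, hM.add] at h'
      exact h' (by rw [← hα, ← hβ, ← hEq]; linear_combination ha3)
    · have h' := hreg' _ (hroot _ h)
      have e : (![0, 2, 1, 0] : Fin 4 → ℤ) = ![0, 1, 0, 0] + (![0, 1, 0, 0] + ![0, 0, 1, 0]) := by decide
      rw [e, hM.add, hM.add] at h'
      exact h' (by rw [← hα, ← hβ, ← hEq]; linear_combination ha3)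

end Cfsg.Agent.H448.TwFC
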